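import Cfsg.Prelude.Def_KGroupFacts
import Cfsg.Agent.AutPSL.AutOrder
import Cfsg.Agent.AutPSL.Predicates
import Cfsg.Agent.AutPSL.Involution
import Cfsg.Agent.AutPSL.FieldAut

/-!
# The outer automorphism group of `PSL_n(F)`

`exists_out_hom`: a surjection of `Out(PSL_n(F))` onto (field automorphisms) × (graph part) with
cyclic kernel of order `gcd(n, q - 1)`.
-/

set_option autoImplicit false

namespace CfsgLib.OutPSL

open Matrix CfsgLib.AutPSL

variable {F : Type*} [Field F] [Fintype F] {n : ℕ}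

/-- The projection of `Aut(PSL)` on field and graph parts. -/
theorem exists_proj (p : ℕ) [Fact p.Prime] [CharP F p] [Nontrivial (Fin n)] {E : Type*} [Group E]
    (sel : E →* MulAut (Matrix.SpecialLinearGroup (Fin n) F))
    (hex : ∀ β : MulAut (Matrix.ProjectiveSpecialLinearGroup (Fin n) F),
      ∃ g σ e, β = toPSLAut (conjSL g * fieldSL σ * sel e))
    (huniq : ∀ {g g' : GL (Fin n) F} {σ σ' : F ≃+* F} {e e' : E},
      conjSL g * fieldSL σ * sel e = conjSL g' * fieldSL σ' * sel e' → σ = σ' ∧ e = e')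
    (hconj : ∀ e g, ∃ g', sel e * conjSL g = conjSL g' * sel e)
    (hfield : ∀ e σ, sel e * fieldSL σ = fieldSL σ * sel e) :
    ∃ π : MulAut (Matrix.ProjectiveSpecialLinearGroup (Fin n) F) →* (F ≃+* F) × E,
      Function.Surjective π ∧ ∀ β, π β = 1 ↔ ∃ g, β = toPSLAut (conjSL g) := by
  choose gg σs es hform using hex
  have key : ∀ {β g σ e}, β = toPSLAut (conjSL g * fieldSL σ * sel e) → σs β = σ ∧ es β = e :=
    fun {β g σ e} hβ => huniq (toPSLAut_injective p ((hform β).symm.trans hβ))
  refine ⟨MonoidHom.mk' (fun β => (σs β, es β)) ?_, ?_, ?_⟩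
  · intro a b
    obtain ⟨g', hg'⟩ := hconj (es a) (gg b)
    have : a * b = toPSLAut (conjSL (gg a * mapGL (σs a) g') * fieldSL (σs a * σs b) *
        sel (es a * es b)) := by
      conv_lhs => rw [hform a, hform b, ← map_mul]
      congr 1
      calc conjSL (gg a) * fieldSL (σs a) * sel (es a) *
            (conjSL (gg b) * fieldSL (σs b) * sel (es b))
          = conjSL (gg a) * fieldSL (σs a) * (sel (es a) * conjSL (gg b)) *
              (fieldSL (σs b) * sel (es b)) := by group
        _ = conjSL (gg a) * (fieldSL (σs a) * conjSL g') * (sel (es a) * fieldSL (σs b)) *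
              sel (es b) := by rw [hg']; group
        _ = _ := by
          rw [fieldSL_mul_conjSL, hfield, map_mul conjSL, map_mul fieldSL, map_mul sel]
          group
    obtain ⟨h1, h2⟩ := key this
    exact Prod.ext h1 h2
  · rintro ⟨σ, e⟩
    obtain ⟨h1, h2⟩ := key (g := 1) (σ := σ) (e := e)
      (β := toPSLAut (conjSL 1 * fieldSL σ * sel e)) rfl
    exact ⟨_, Prod.ext h1 h2⟩
  · intro β
    constructor
    · intro h
      have h1 : σs β = 1 := congrArg Prod.fst h
      have h2 : es β = 1 := congrArg Prod.snd h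
      refine ⟨gg β, ?_⟩
      conv_lhs => rw [hform β, h1, h2]
      rw [map_one fieldSL, map_one sel, mul_one, mul_one]
    · rintro ⟨g, hg⟩
      obtain ⟨h1, h2⟩ := key (g := g) (σ := 1) (e := 1) (β := β)
        (by rw [hg, map_one fieldSL, map_one sel, mul_one, mul_one])
      exact Prod.ext h1 h2

/-- Structure of `Out(PSL_n(F))` from a projection with inner-diagonal kernel. -/
theorem exists_out_hom (p : ℕ) [Fact p.Prime] [CharP F p] [Nontrivial (Fin n)] {E C : Type*}
    [Group E] [Group C] (eC : (F ≃+* F) × E ≃* C)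
    (π : MulAut (Matrix.ProjectiveSpecialLinearGroup (Fin n) F) →* (F ≃+* F) × E)
    (hπ : Function.Surjective π) (hker : ∀ β, π β = 1 ↔ ∃ g, β = toPSLAut (conjSL g)) :
    ∃ φ : Cfsg.Out (Matrix.ProjectiveSpecialLinearGroup (Fin n) F) →* C,
      Function.Surjective φ ∧ IsCyclic φ.ker ∧
        Nat.card φ.ker = Nat.gcd n (Fintype.card F - 1) := by
  classical
  let π' := eC.toMonoidHom.comp π
  have hinn : Cfsg.Inn (Matrix.ProjectiveSpecialLinearGroup (Fin n) F) ≤ π'.ker := by
    rw [inn_eq_range]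
    rintro _ ⟨s, rfl⟩
    show eC (π _) = 1
    rw [MulEquiv.map_eq_one_iff]
    exact (hker _).2 ⟨_, rfl⟩
  refine ⟨QuotientGroup.lift _ π' hinn, ?_, ?_⟩
  · intro c
    obtain ⟨β, hβ⟩ := (eC.surjective.comp hπ) c
    exact ⟨QuotientGroup.mk β, hβ⟩
  let ψ : GL (Fin n) F →* Cfsg.Out (Matrix.ProjectiveSpecialLinearGroup (Fin n) F) :=
    (QuotientGroup.mk' _).comp innDiagHom
  have hrange : (QuotientGroup.lift _ π' hinn).ker = ψ.range := by
    refine le_antisymm (fun x hx => ?_) ?_
    · obtain ⟨β, rfl⟩ := QuotientGroup.mk_surjective x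
      have hx' : eC (π β) = 1 := hx
      rw [MulEquiv.map_eq_one_iff, hker] at hx'
      obtain ⟨g, rfl⟩ := hx'
      exact ⟨g, rfl⟩
    · rintro _ ⟨g, rfl⟩
      show eC (π _) = 1
      rw [MulEquiv.map_eq_one_iff]
      exact (hker _).2 ⟨g, rfl⟩
  -- the kernel of `ψ`
  have hψ : ψ.ker = ((powMonoidHom n : Fˣ →* Fˣ).range).comap Matrix.GeneralLinearGroup.det := by
    ext g
    show QuotientGroup.mk (innDiagHom g) = (1 : Cfsg.Out _) ↔ _
    rw [QuotientGroup.eq_one_iff, inn_eq_range, Subgroup.mem_comap]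
    constructor
    · rintro ⟨s, hs⟩
      have h2 := toPSLAut_injective p (hs : toPSLAut (conjSL (Matrix.SpecialLinearGroup.toGL s)) =
        toPSLAut (conjSL g))
      have h3 : conjSL g * fieldSL 1 = conjSL (Matrix.SpecialLinearGroup.toGL s) * fieldSL 1 := by
        rw [h2]
      obtain ⟨-, u, rfl⟩ := semilinear_unique h3
      refine ⟨u, ?_⟩
      apply Units.ext
      rw [map_mul]
      simp [Matrix.GeneralLinearGroup.det, Matrix.det_diagonal]
    · rintro ⟨u, hu⟩
      have hu' : ((u : F) ^ n) = (g : Matrix (Fin n) (Fin n) F).det := congrArg Units.val hu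
      refine ⟨⟨(u : F)⁻¹ • (g : Matrix (Fin n) (Fin n) F), ?_⟩, ?_⟩
      · rw [Matrix.det_smul, Fintype.card_fin, ← hu', inv_pow, inv_mul_cancel₀]
        exact pow_ne_zero _ u.ne_zero
      · show toPSLAut (conjSL _) = toPSLAut (conjSL g)
        congr 1
        have hg : g = Matrix.GeneralLinearGroup.scalar (Fin n) u *
            Matrix.SpecialLinearGroup.toGL ⟨(u : F)⁻¹ • (g : Matrix (Fin n) (Fin n) F), by
              rw [Matrix.det_smul, Fintype.card_fin, ← hu', inv_pow, inv_mul_cancel₀]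
              exact pow_ne_zero _ u.ne_zero⟩ := by
          apply Units.ext
          show (g : Matrix (Fin n) (Fin n) F) = Matrix.diagonal (fun _ => (u : F)) *
            ((u : F)⁻¹ • (g : Matrix (Fin n) (Fin n) F))
          rw [← Matrix.smul_eq_diagonal_mul, smul_smul, mul_inv_cancel₀ u.ne_zero, one_smul]
        conv_rhs => rw [hg]
        rw [map_mul, conjSL_scalar, one_mul]
  have hdet : Function.Surjective (Matrix.GeneralLinearGroup.det : GL (Fin n) F →* Fˣ) := by
    intro c
    haveI : Nonempty (Fin n) := inferInstance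
    obtain ⟨i⟩ := (inferInstance : Nonempty (Fin n))
    refine ⟨Matrix.GeneralLinearGroup.mkOfDetNeZero
      (Matrix.diagonal fun j => if j = i then (c : F) else 1) (by simp [Matrix.det_diagonal]), ?_⟩
    apply Units.ext
    simp [Matrix.GeneralLinearGroup.det, Matrix.GeneralLinearGroup.mkOfDetNeZero, Matrix.det_diagonal]
  constructor
  · -- the kernel is a quotient of `Fˣ`
    have hdker : (Matrix.GeneralLinearGroup.det : GL (Fin n) F →* Fˣ).ker ≤ ψ.ker := by
      rw [hψ]
      intro g hg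
      rw [Subgroup.mem_comap, MonoidHom.mem_ker.1 hg]
      exact one_mem _
    let χ : Fˣ →* Cfsg.Out (Matrix.ProjectiveSpecialLinearGroup (Fin n) F) :=
      (Matrix.GeneralLinearGroup.det : GL (Fin n) F →* Fˣ).liftOfSurjective hdet ⟨ψ, hdker⟩
    have hχ : χ.range = ψ.range := by
      refine le_antisymm ?_ ?_
      · rintro _ ⟨c, rfl⟩
        obtain ⟨g, rfl⟩ := hdet c
        exact ⟨g, (MonoidHom.liftOfRightInverse_comp_apply _ _ (Function.rightInverse_surjInv hdet) ⟨ψ, hdker⟩ g).symm⟩
      · rintro _ ⟨g, rfl⟩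
        exact ⟨_, MonoidHom.liftOfRightInverse_comp_apply _ _ (Function.rightInverse_surjInv hdet) ⟨ψ, hdker⟩ g⟩
    rw [hrange, ← hχ]
    exact isCyclic_of_surjective χ.rangeRestrict χ.rangeRestrict_surjective
  · rw [hrange, ← Subgroup.index_ker, hψ, Subgroup.index_comap_of_surjective _ hdet,
      IsCyclic.index_powMonoidHom_range, Nat.card_units, Nat.card_eq_fintype_card, Nat.gcd_comm]

/-- `F ≃+* F` is cyclic of order `f`. -/
theorem exists_ringEquiv_mulEquiv {p f : ℕ} [Fact p.Prime] (hF : Fintype.card F = p ^ f)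
    (hf : 1 ≤ f) : Nonempty ((F ≃+* F) ≃* Multiplicative (ZMod f)) := by
  haveI := isCyclic_ringEquiv (F := F)
  have hc := card_ringEquiv (F := F) hF hf
  refine ⟨(zmodCyclicMulEquiv (G := F ≃+* F) inferInstance).symm.trans ?_⟩
  rw [hc]

end CfsgLib.OutPSL
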